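import Cfsg.Agent.Lib.ThreeT.F22.O8.Out.EnumChk
import Cfsg.Agent.Lib.ThreeT.F22.O8.Out.Twist
import Cfsg.Agent.S2079

/-!
# The classification of the outer involutions of `Fi₂₂`
-/

set_option autoImplicit false
set_option linter.style.haveILetI false
set_option linter.unusedSectionVars false
set_option linter.unusedVariables false
set_option linter.style.longLine false
set_option linter.unnecessarySimpa false
set_option maxRecDepth 1000000

namespace Cfsg.Agent.Lib.ThreeT.F22.O8.Out

open Cfsg Cfsg.Agent.Lib.TC.Core Cfsg.Agent.Lib.TC.Pres Cfsg.Agent.Lib.TC.Chain Cfsg.Agent.Lib.TC.Chain.PermLev Cfsg.Agent.Lib.TC.G.Fi22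
  Cfsg.Agent.Lib.TC.D.Fi22b.Tab Cfsg.Agent.Lib.TC.D.Fi22b.Ok
  Cfsg.Agent.Lib.ThreeT.F22.Sift Cfsg.Agent.Lib.ThreeT.F22.Act Cfsg.Agent.Lib.ThreeT.F22.PLoc
  Cfsg.Agent.Lib.ThreeT.F22.Cnt Cfsg.Agent.Lib.ThreeT.F22.DPts Cfsg.Agent.Lib.ThreeT.F22.D5
  Cfsg.Agent.Lib.ThreeT.F22.M5 Cfsg.Agent.Lib.ThreeT.F22.O8 PcAbs PcD

/-- An element of the outer coset. -/
noncomputable def tG (g : Γ) : MulAut Γ := sig * MulAut.conj g

theorem conj_sig (g : Γ) : MulAut.conj g * sig = sig * MulAut.conj (sig g) := by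
  ext y
  show g * sig y * g⁻¹ = sig (sig g * y * (sig g)⁻¹)
  simp only [map_mul, map_inv, sig_sig]

/-- Conjugation in the outer coset. -/
theorem tG_conj {x g g' : Γ} (h : sig x * g = g' * x) : MulAut.conj x * tG g * (MulAut.conj x)⁻¹ = tG g' := by
  have e : g' = sig x * g * x⁻¹ := by rw [h]; group
  rw [tG, tG, ← mul_assoc, conj_sig, e, ← map_inv, mul_assoc sig, ← map_mul, mul_assoc sig, ← map_mul]

/-- The property of being conjugate to a representative. -/
def Good (g : Γ) : Prop :=
  IsConj (tG g) sig ∨ IsConj (tG g) (sig * MulAut.conj c0) ∨ IsConj (tG g) (sig * MulAut.conj (c0 * b0))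

theorem Good_of_conj {x g g' : Γ} (h : sig x * g = g' * x) (hg : Good g) : Good g' := by
  have h1 : IsConj (tG g') (tG g) := IsConj.symm (isConj_iff.2 ⟨MulAut.conj x, tG_conj h⟩)
  rcases hg with hg | hg | hg
  · exact Or.inl (h1.trans hg)
  · exact Or.inr (Or.inl (h1.trans hg))
  · exact Or.inr (Or.inr (h1.trans hg))

theorem hn34 : ∀ z ∈ nw 34, z < pt.k := nw_lt (by decide) (by decide +kernel)

theorem cw_lt {r : Nat} : ∀ z ∈ cw r, z < pt.k := by
  intro z hz
  match r, hz with
  | 0, hz => simp [cw] at hz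
  | 1, hz => exact hn17 z hz
  | (k + 2), hz =>
    rcases List.mem_append.1 hz with hz | hz
    · exact hn34 z hz
    · exact hn17 z hz

theorem wv_cw1 : wv (cw 1) = c0 := wv_nw (by decide) (by decide +kernel)

theorem wv_cw2 : wv (cw 2) = c0 * b0 := by
  show wv (nw 34 ++ nw 17) = _
  rw [wv_append, wv_nw (by decide) (by decide +kernel), wv_nw (by decide) (by decide +kernel)]
  rfl

theorem Good_root {e r : Nat} {hw : List Nat} (hr : r < 3) (h : rootOK e r hw = true) : Good (nfG XL e) := by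
  simp only [rootOK, Bool.and_eq_true] at h
  have hl : ∀ z ∈ hw, z < pt.k := by
    intro z hz
    have h3 : z < 9 := by simpa [Nat.blt] using List.all_eq_true.1 h.1 z hz
    exact h3
  have e1 : sig (wv hw) * nfG XL e = wv (cw r) * wv hw := by
    apply eq_of_base (fu := fun p => sN (pt.val hw (sN (ev tL e p)))) (fv := fun p => pt.val (cw r) (pt.val hw p)) ?_ ?_ h.2
    · intro p
      rw [map_mul, Equiv.Perm.mul_apply, phi_sig, sP_val, phi_val hl, sP_val, ev_XL]
    · intro p
      rw [map_mul, Equiv.Perm.mul_apply, phi_val cw_lt, phi_val hl]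
  have h2 : IsConj (tG (nfG XL e)) (tG (wv (cw r))) := isConj_iff.2 ⟨MulAut.conj (wv hw), tG_conj e1⟩
  have h3 : r = 0 ∨ r = 1 ∨ r = 2 := by omega
  rcases h3 with rfl | rfl | rfl
  · left
    have : tG (wv (cw 0)) = sig := by
      have : wv (cw 0) = 1 := by simp [cw, wv]
      rw [tG, this, map_one, mul_one]
    rwa [this] at h2
  · right; left
    rwa [tG, wv_cw1] at h2
  · right; right
    rwa [tG, wv_cw2] at h2

theorem tb_get {XS : List Γ} {TS : List Nat} (h : List.Forall₂ TB XS TS) {j : Nat} (hj : j < XS.length) :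
    TB (XS.getD j 1) (TS.getD j 0) := by
  induction h generalizing j with
  | nil => simp at hj
  | @cons x T xs Ts hx _ ih =>
    cases j with
    | zero => simpa using hx
    | succ j => simpa using ih (by simpa using hj)

theorem testBit_step {M v e : Nat} (h : (Nat.lor M (Nat.shiftLeft 1 v)).testBit e = true) : M.testBit e = true ∨ e = v := by
  have h1 : Nat.lor M (Nat.shiftLeft 1 v) = M ||| 2 ^ v := by
    have : Nat.shiftLeft 1 v = 1 <<< v := rfl
    rw [this, Nat.one_shiftLeft]
    rfl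
  rw [h1, Nat.testBit_or, Bool.or_eq_true, Nat.testBit_two_pow] at h
  rcases h with h | h
  · exact Or.inl h
  · exact Or.inr (of_decide_eq_true h).symm

theorem chkR_spec (L : List (Nat × Nat × List Nat)) (M : Nat) (hM : ∀ e, M.testBit e = true → Good (nfG XL e)) :
    ∀ e, (chkR L M).testBit e = true → Good (nfG XL e) := by
  induction L generalizing M with
  | nil => exact hM
  | cons q rest ih =>
    intro e he
    rw [chkR] at he
    cases hc : (Nat.blt q.2.1 3 && rootOK q.1 q.2.1 q.2.2) with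
    | false =>
      rw [hc] at he
      simp at he
    | true =>
      rw [hc] at he
      simp only [cond_true] at he
      refine ih _ ?_ e he
      intro e' he'
      rcases testBit_step he' with h1 | rfl
      · exact hM e' h1
      · simp only [Bool.and_eq_true] at hc
        exact Good_root (by simpa [Nat.blt] using hc.1) hc.2

theorem chkF_spec (L : List (Nat × Nat × Nat)) (M : Nat) (hM : ∀ e, M.testBit e = true → Good (nfG XL e)) :
    ∀ e, (chkF L M).testBit e = true → Good (nfG XL e) := by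
  induction L generalizing M with
  | nil => exact hM
  | cons q rest ih =>
    intro e he
    rw [chkF] at he
    cases hc : (Nat.testBit M q.2.1 && Nat.blt q.2.2 17 && cjF q.1 q.2.1 q.2.2) with
    | false =>
      rw [hc] at he
      simp at he
    | true =>
      rw [hc] at he
      simp only [cond_true] at he
      refine ih _ ?_ e he
      intro e' he'
      rcases testBit_step he' with h1 | rfl
      · exact hM e' h1
      · simp only [Bool.and_eq_true] at hc
        obtain ⟨⟨h1, h2⟩, h3⟩ := hc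
        have hj : q.2.2 < XL.length := by
          rw [XL_len]
          simpa [Nat.blt] using h2
        have hT := tb_get hXT hj
        refine Good_of_conj (x := XL.getD q.2.2 1) (g := nfG XL q.2.1) ?_ (hM _ h1)
        apply eq_of_base (fu := fun p => sN (lk (tL.getD q.2.2 0) (sN (ev tL q.2.1 p)))) (fv := fun p => ev tL q.1 (lk (tL.getD q.2.2 0) p)) ?_ ?_ h3
        · intro p
          rw [map_mul, Equiv.Perm.mul_apply, phi_sig, sP_val, hT, sP_val, ev_XL]
        · intro p
          rw [map_mul, Equiv.Perm.mul_apply, ev_XL, hT]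

theorem land_testBit {S M e : Nat} (h1 : Nat.land S M = S) (h2 : S.testBit e = true) : M.testBit e = true := by
  have h3 : (Nat.land S M).testBit e = true := by rw [h1]; exact h2
  have h4 : Nat.land S M = S &&& M := rfl
  rw [h4, Nat.testBit_and, Bool.and_eq_true] at h3
  exact h3.2

theorem Good_of_sol {e : Nat} (h : SOL.testBit e = true) : Good (nfG XL e) :=
  chkF_spec fL _ (chkR_spec rL 0 (fun e h => by simp at h)) e (land_testBit hforest h)

theorem tstE_of_sq {e : Nat} (h : tG (nfG XL e) * tG (nfG XL e) = 1) : tstE e = true := by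
  have hact : ∀ p : Fin pt.n, tG (nfG XL e) (dp p) = dp (sP (phi (nfG XL e) p)) := by
    intro p
    show sig (nfG XL e * dp p * (nfG XL e)⁻¹) = _
    rw [conj_dp, sig_dp]
  apply List.all_eq_true.2
  intro b hb
  have hb3 : b < 3510 := by
    have : ∀ b ∈ BS, b < 3510 := by decide
    exact this b hb
  have h1 : (tG (nfG XL e) * tG (nfG XL e)) (dp ⟨b, hb3⟩) = dp ⟨b, hb3⟩ := by
    rw [h]
    rfl
  have h2 : tG (nfG XL e) (tG (nfG XL e) (dp ⟨b, hb3⟩)) = dp ⟨b, hb3⟩ := h1
  rw [hact, hact] at h2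
  have h3 := dp_inj h2
  have h4 := congrArg Fin.val h3
  rw [sP_val, ev_XL, sP_val, ev_XL] at h4
  have h5 : sN (ev tL e (sN (ev tL e b))) = b := h4
  rw [h5]
  simp

theorem P0_nf' {g : Γ} (hg : g ∈ P0) : ∃ e, e < 2 ^ 17 ∧ g = nfG XL e := by
  obtain ⟨e, he, h⟩ := mem_nf PC_XL hg
  rw [XL_len] at he
  exact ⟨e, he, h⟩

/-- The outer involutions of the Sylow subgroup. -/
theorem Good_of_P0 {g : Γ} (hg : g ∈ P0) (h : tG g * tG g = 1) : Good g := by
  obtain ⟨e, he, rfl⟩ := P0_nf' hg
  apply Good_of_sol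
  have h1 := hAll he
  rw [fchk, tstE_of_sq h] at h1
  simpa using h1

/-! ### The Sylow subgroup of the automorphism group -/

theorem conj_inj : Function.Injective (MulAut.conj : Γ →* MulAut Γ) := by
  rw [injective_iff_map_eq_one]
  intro g hg
  apply cent_N1
  intro n _
  have h1 : MulAut.conj g n = n := by rw [hg]; rfl
  have h2 : g * n * g⁻¹ = n := h1
  show g * n = n * g
  calc g * n = g * n * g⁻¹ * g := by group
    _ = n * g := by rw [h2]

/-- The Sylow subgroup of the automorphism group. -/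
noncomputable def Phat : Subgroup (MulAut Γ) where
  carrier := {α | ∃ g ∈ P0, α = MulAut.conj g ∨ α = tG g}
  one_mem' := ⟨1, P0.one_mem, Or.inl (by simp)⟩
  mul_mem' := by
    rintro α β ⟨g, hg, rfl | rfl⟩ ⟨h, hh, rfl | rfl⟩
    · exact ⟨g * h, P0.mul_mem hg hh, Or.inl (by simp)⟩
    · refine ⟨sig g * h, P0.mul_mem (sig_P0 hg) hh, Or.inr ?_⟩
      rw [tG, tG, ← mul_assoc, conj_sig, map_mul, mul_assoc]
    · exact ⟨g * h, P0.mul_mem hg hh, Or.inr (by rw [tG, tG, map_mul, mul_assoc])⟩
    · refine ⟨sig g * h, P0.mul_mem (sig_P0 hg) hh, Or.inl ?_⟩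
      rw [tG, tG, mul_assoc, ← mul_assoc (MulAut.conj g), conj_sig, mul_assoc, ← mul_assoc sig, sig_sq, one_mul, map_mul]
  inv_mem' := by
    rintro α ⟨g, hg, rfl | rfl⟩
    · exact ⟨g⁻¹, P0.inv_mem hg, Or.inl (by simp)⟩
    · refine ⟨sig g⁻¹, sig_P0 (P0.inv_mem hg), Or.inr ?_⟩
      have h1 : sig⁻¹ = sig := inv_eq_of_mul_eq_one_left sig_sq
      rw [tG, tG, mul_inv_rev, h1, ← map_inv, conj_sig]

theorem card_Phat : Nat.card Phat = 2 ^ 18 := by
  let f : Bool × P0 → Phat := fun q =>
    ⟨if q.1 then tG q.2.1 else MulAut.conj q.2.1, q.2.1, q.2.2, by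
      cases q.1 <;> simp⟩
  have hbij : Function.Bijective f := by
    constructor
    · rintro ⟨a, u⟩ ⟨b, v⟩ he
      have he' : (if a = true then tG u.1 else MulAut.conj u.1) = (if b = true then tG v.1 else MulAut.conj v.1) := congrArg Subtype.val he
      cases a <;> cases b <;> simp only [if_true, if_false, Bool.false_eq_true] at he'
      · have : u = v := Subtype.ext (conj_inj he')
        rw [this]
      · exfalso
        apply sig_not_inner
        refine ⟨u.1 * v.1⁻¹, ?_⟩
        rw [map_mul, map_inv, he', tG]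
        group
      · exfalso
        apply sig_not_inner
        refine ⟨v.1 * u.1⁻¹, ?_⟩
        rw [map_mul, map_inv, ← he', tG]
        group
      · have : u = v := Subtype.ext (conj_inj (mul_left_cancel he'))
        rw [this]
    · rintro ⟨α, g, hg, h | h⟩
      · exact ⟨(false, ⟨g, hg⟩), Subtype.ext (by simp [f, h])⟩
      · exact ⟨(true, ⟨g, hg⟩), Subtype.ext (by simp [f, h])⟩
  rw [← Nat.card_congr (Equiv.ofBijective f hbij), Nat.card_prod, card_P0]
  simp

theorem card_aut : Nat.card (MulAut Γ) = 2 * NN := by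
  have h1 : Nat.card (Cfsg.Out Γ) = 2 := Cfsg.Agent.S2079.result
  have h2 : Nat.card (Inn Γ) = NN := by
    rw [← card_Γ]
    exact (Nat.card_congr (MonoidHom.ofInjective conj_inj).toEquiv).symm
  have h3 := Subgroup.card_eq_card_quotient_mul_card_subgroup (Inn Γ)
  rw [h3, h2]
  congr 1

instance : Finite (MulAut Γ) := Finite.of_injective (fun α : MulAut Γ => (α : Γ → Γ)) DFunLike.coe_injective

theorem hfact2 : (Nat.card (MulAut Γ)).factorization 2 = 18 := by
  rw [card_aut]
  have : 2 * NN = 2 ^ 18 * 492567075 := by norm_num [NN]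
  rw [this, Nat.factorization_mul (by norm_num) (by norm_num), Nat.Prime.factorization_pow (by norm_num)]
  have h0 : (Nat.factorization 492567075) 2 = 0 := Nat.factorization_eq_zero_of_not_dvd (by norm_num)
  simp [h0]

/-- The classification of the outer involutions. -/
theorem classify (t : MulAut Γ) (ht : orderOf t = 2) (hn : t ∉ (MulAut.conj : Γ →* MulAut Γ).range) :
    IsConj t sig ∨ IsConj t (sig * MulAut.conj c0) ∨ IsConj t (sig * MulAut.conj (c0 * b0)) := by
  haveI : Fact (Nat.Prime 2) := ⟨Nat.prime_two⟩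
  let S : Sylow 2 (MulAut Γ) := Sylow.ofCard Phat (by rw [hfact2, card_Phat])
  have hS : (S : Subgroup (MulAut Γ)) = Phat := rfl
  have hp : IsPGroup 2 (Subgroup.zpowers t) := by
    apply IsPGroup.of_card (n := 1)
    rw [Nat.card_zpowers, ht, pow_one]
  obtain ⟨Q, hQ⟩ := hp.exists_le_sylow
  obtain ⟨κ, hκ⟩ := MulAction.exists_smul_eq (MulAut Γ) Q S
  have h1 : t ∈ (Q : Subgroup (MulAut Γ)) := hQ (Subgroup.mem_zpowers t)
  have h2 : κ * t * κ⁻¹ ∈ Phat := by
    rw [← hS, ← hκ, Sylow.coe_subgroup_smul]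
    exact Subgroup.mem_map_of_mem _ h1
  obtain ⟨g, hg, h3 | h3⟩ := h2
  · exfalso
    apply hn
    refine ⟨κ⁻¹ g, ?_⟩
    have h4 : t = κ⁻¹ * MulAut.conj g * κ := by
      rw [← h3]
      group
    rw [h4]
    ext y
    show κ⁻¹ g * y * (κ⁻¹ g)⁻¹ = κ⁻¹ (g * κ y * g⁻¹)
    simp
  · have h5 : t * t = 1 := by
      rw [← pow_two, ← ht, pow_orderOf_eq_one]
    have h6 : tG g * tG g = 1 := by
      rw [← h3]
      calc κ * t * κ⁻¹ * (κ * t * κ⁻¹) = κ * (t * t) * κ⁻¹ := by group
        _ = 1 := by rw [h5]; group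
    have h7 : IsConj t (tG g) := isConj_iff.2 ⟨κ, h3⟩
    rcases Good_of_P0 hg h6 with h8 | h8 | h8
    · exact Or.inl (h7.trans h8)
    · exact Or.inr (Or.inl (h7.trans h8))
    · exact Or.inr (Or.inr (h7.trans h8))

end Cfsg.Agent.Lib.ThreeT.F22.O8.Out
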