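import Cfsg.Agent.Lib.ThreeT.F22.O8.Phi

/-!
# The subgroup `2⁶ : O₆⁻(2)` of `Fi₂₂`: data and numerical checks

36 pairs of points of the 3510; the products of the pairs generate `O`. The point `2` lies in a regular orbit of `O`.
-/

set_option autoImplicit false
set_option linter.style.haveILetI false
set_option linter.unusedSectionVars false
set_option linter.unusedVariables false
set_option linter.style.longLine false
set_option linter.unnecessarySimpa false
set_option maxRecDepth 1000000

namespace Cfsg.Agent.Lib.ThreeT.F22.O8.Out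

open Cfsg Cfsg.Agent.Lib.TC.Core Cfsg.Agent.Lib.TC.Chain Cfsg.Agent.Lib.TC.Chain.PermLev Cfsg.Agent.Lib.TC.D.Fi22b.Tab
  Cfsg.Agent.Lib.ThreeT.F22.Sift Cfsg.Agent.Lib.ThreeT.F22.Act Cfsg.Agent.Lib.ThreeT.F22.DPts
  Cfsg.Agent.Lib.ThreeT.F22.O8

/-- The 36 pairs of points with the codes of their products. -/
def prs : List (Nat × Nat × Nat) := [(3,1917,19),(10,202,18),(11,39,16),(13,2724,22),(14,1299,11),(22,2969,7),(38,1031,25),(41,2963,5),(42,962,24),(47,512,10),(57,2203,14),(63,2716,20),(79,1994,31),(114,1570,28),(138,1769,13),(154,1609,17),(356,519,47),(367,1745,44),(452,993,54),(504,1354,63),(562,802,60),(580,1546,52),(593,2247,41),(723,835,36),(726,1178,38),(730,1410,51),(739,1070,40),(751,2001,56),(882,912,57),(901,1601,34),(918,2048,49),(1049,1277,33),(1108,1831,32),(1250,1480,48),(1285,1440,35),(1491,1641,50)]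

/-- The regular orbit of `O` on the point `2`, with codes and words in the pairs. -/
def tA : List (Nat × Nat × List Nat) := [(2,0,[]),(7,18,[1]),(9,9,[1,2,4]),(17,16,[2]),(27,26,[0,1,2,4]),(32,42,[0,3,16]),(33,10,[0,1,4]),(36,12,[0,1,2,3,4]),(40,2,[1,2]),(49,59,[1,2,3,16]),(54,29,[3,4]),(59,25,[1,4]),(73,56,[0,1,3,16]),(98,41,[2,3,16]),(105,38,[1,2,4,16]),(128,62,[0,1,2,16]),(144,28,[0,1,3,4]),(165,32,[1,3,4,16]),(171,13,[2,3,4]),(172,45,[1,2,16]),(199,44,[0,2,16]),(200,49,[0,2,3,4,16]),(221,55,[0,4,16]),(230,51,[0,1,3,4,16]),(266,63,[2,16]),(267,34,[2,3,4,16]),(332,35,[0,1,2,3,4,16]),(341,53,[0,1,2,4,16]),(398,52,[2,4,16]),(402,8,[0,2,4]),(423,50,[3,4,16]),(462,37,[0,1,4,16]),(463,39,[0,2,4,16]),(472,54,[1,4,16]),(629,58,[0,2,3,16]),(777,48,[1,2,3,4,16]),(787,43,[1,3,16]),(855,27,[2,4]),(956,33,[0,3,4,16]),(1094,61,[1,16]),(1129,40,[0,1,2,3,16]),(1142,24,[0,4]),(1230,57,[3,16]),(1254,3,[0,2]),(1289,46,[0,1,16]),(1316,47,[16]),(1383,30,[0,2,3,4]),(1414,60,[0,16]),(1498,11,[4]),(1571,15,[1,3,4]),(1731,36,[4,16]),(1739,19,[0]),(1781,17,[0,1,2]),(1946,1,[0,1]),(1993,23,[0,1,3]),(2211,6,[2,3]),(2239,31,[1,2,3,4]),(2352,4,[1,3]),(2454,14,[0,3,4]),(2461,20,[1,2,3]),(2493,21,[0,2,3]),(2721,5,[0,3]),(2954,22,[3]),(3146,7,[0,1,2,3])]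

/-- The values of the elliptic form on codes. -/
def QM6 : Nat := 0x935f935f935f6ca0

/-- Reflection steps from the regular orbit to the generators of the orthogonal group. -/
def qsteps : List (Nat × Nat) := [(266,1316),(7,144),(7,171),(2,17),(2,144)]

/-- The points of the generating vectors. -/
def gvP : List Nat := [39,73,57,79,1383,11,9,114]

/-- The pairs used as tests. -/
def testsL : List Nat := [0,3,4,1]

/-- The points of the pairs. -/
def F72L : List Nat := prs.flatMap (fun q => [q.1, q.2.1])

/-- The word of a point, with forced values. -/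
noncomputable def ptF : Nat → Nat → List Nat → List Nat
  | 0, _, acc => acc
  | k + 1, p, acc => bif Nat.beq p 0 then acc else force (pt.tp p) fun p' => force (pt.tc p) fun c => ptF k p' (c :: acc)

theorem ptF_eq (k p : Nat) (acc : List Nat) : ptF k p acc = ptwAux k p acc := by
  induction k generalizing p acc with
  | zero => rfl
  | succ k ih =>
    simp only [ptF, ptwAux, force_eq, ih]

/-- The word of the member of the class at a point. -/
noncomputable def dW (x : Nat) : List Nat := tw (ptF 40 x [])

theorem dW_eq (x : Nat) : dW x = tw (ptw x) := by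
  rw [dW, ptF_eq]
  rfl

/-- The word of the product of a pair. -/
noncomputable def eW (a b : Nat) : List Nat := dW b ++ dW a

/-- The member at `x` commutes with the member at `z`. -/
noncomputable def cmB (x z : Nat) : Bool := pt.walk (fun u => Nat.beq u z) (dW x) z

/-- Equality of booleans. -/
def eqb (a b : Bool) : Bool := bif a then b else !b

/-- The form on codes. -/
def q6 (c : Nat) : Bool := Nat.testBit QM6 c

/-- The reflection on codes. -/
def tf6 (a x : Nat) : Nat := bif eqb (q6 (x ^^^ a)) (xor (q6 x) (q6 a)) then x else x ^^^ a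

/-- The table of the orbit. -/
noncomputable def memT (z c : Nat) : Bool := tA.any (fun r => Nat.beq r.1 z && Nat.beq r.2.1 c)

/-- The word of a list of pairs. -/
noncomputable def lW (L : List Nat) : List Nat :=
  L.flatMap (fun i => eW (prs.getD i (0, 0, 0)).1 (prs.getD i (0, 0, 0)).2.1)

/-- The list of the orbit. -/
noncomputable def memA (p : Nat) : Bool := memB p (tA.map (·.1))

/-- The test by the pair number `t`: `E_t p` against `p`. -/
noncomputable def tst (t p : Nat) : Bool :=
  pt.walk (fun q => cmB q p) (eW (prs.getD t (0, 0, 0)).1 (prs.getD t (0, 0, 0)).2.1) p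

/-- The image of `y` under the member at `x`. -/
noncomputable def act (x y : Nat) : Nat := pt.val (dW x) y

/-- Growing a set of points by reflections. -/
noncomputable def growQ : List (Nat × Nat) → List Nat → List Nat
  | [], S => S
  | st :: l, S => growQ l (bif memB st.1 S && memB st.2 S then act st.1 st.2 :: S else S)

/-- The same commuting pattern on the 72 points. -/
noncomputable def same (x y : Nat) : Bool := F72L.all (fun z => eqb (cmB x z) (cmB y z))

/-- Being a pair. -/
def isPB (x y : Nat) : Bool := prs.any (fun q => (Nat.beq x q.1 && Nat.beq y q.2.1) || (Nat.beq x q.2.1 && Nat.beq y q.1))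

theorem chk_ptw : (List.range 3510).all (fun p =>
    Nat.beq (pt.val (ptw p) 0) p && (ptw p).all (fun z => Nat.blt z 9)) = true := by decide +kernel

theorem chk_prs : prs.all (fun q => Nat.blt q.1 3510 && Nat.blt q.2.1 3510 && Nat.blt q.2.2 64 && q6 q.2.2 &&
    !(Nat.beq q.1 q.2.1)) = true := by decide +kernel

theorem chk_len : prs.length = 36 := by decide +kernel

theorem chk_tests : testsL.all (fun t => Nat.blt t 36) = true := by decide +kernel

theorem chk_pair_comm : prs.all (fun q => cmB q.1 q.2.1) = true := by decide +kernel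

theorem chk_E_pair : prs.all (fun q => prs.all (fun q' =>
    pt.walk (fun u => pt.walk (fun v => (Nat.beq u q'.1 && Nat.beq v q'.2.1) || (Nat.beq u q'.2.1 && Nat.beq v q'.1))
      (eW q.1 q.2.1) q'.2.1) (eW q.1 q.2.1) q'.1)) = true := by decide +kernel

theorem chk_tA_word : tA.all (fun r => Nat.beq (pt.val (lW r.2.2) 2) r.1 && r.2.2.all (fun i => Nat.blt i 36)) = true := by
  decide +kernel

theorem chk_tA_lt : tA.all (fun r => Nat.blt r.1 3510 && Nat.blt r.2.1 64) = true := by decide +kernel

theorem chk_tA_fun : tA.all (fun r => tA.all (fun s => eqb (Nat.beq r.1 s.1) (Nat.beq r.2.1 s.2.1))) = true := by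
  decide +kernel

theorem chk_tA_zero : ((2 : Nat), (0 : Nat), ([] : List Nat)) ∈ tA := by decide +kernel

theorem chk_tA_cover : (List.range 64).all (fun c => tA.any (fun r => Nat.beq r.2.1 c)) = true := by decide +kernel

theorem chk_tA_act : tA.all (fun r => prs.all (fun q =>
    pt.walk (fun z' => memT z' (r.2.1 ^^^ q.2.2)) (eW q.1 q.2.1) r.1)) = true := by decide +kernel

/-- Only the points of the orbit look like the point `2`. -/
theorem chk_filter : (List.range 3510).all (fun p =>
    memA p || testsL.any (fun t => !(eqb (tst t p) (tst t 2)))) = true := by decide +kernel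

theorem chk_gv : gvP = gvL.map bt := by decide +kernel

theorem chk_grow : gvP.all (fun z => memB z (growQ qsteps (tA.map (·.1)))) = true := by decide +kernel

theorem chk_same : prs.all (fun q => same q.1 q.2.1) = true := by decide +kernel

theorem chk_pat : F72L.all (fun x => F72L.all (fun y => !same x y || Nat.beq x y || isPB x y)) = true := by
  decide +kernel

theorem chk_uniq : prs.all (fun q => prs.all (fun q' =>
    !(Nat.beq q.1 q'.1 || Nat.beq q.1 q'.2.1 || Nat.beq q.2.1 q'.1 || Nat.beq q.2.1 q'.2.1) ||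
      (Nat.beq q.1 q'.1 && Nat.beq q.2.1 q'.2.1))) = true := by decide +kernel

theorem chk_three : F72L.all (fun s => F72L.all (fun u =>
    cmB s u || pt.walk (fun v => pt.walk (fun w => Nat.beq v w) (dW u) s) (dW s) u)) = true := by decide +kernel

theorem chk_refl : prs.all (fun q => prs.all (fun q' =>
    pt.walk (fun z' => memT z' (tf6 q.2.2 q'.2.2)) (dW q.1 ++ dW q'.2.1 ++ dW q'.1 ++ dW q.1) 2)) = true := by
  decide +kernel

theorem chk_Qcover : (List.range 64).all (fun c => !q6 c || prs.any (fun q => Nat.beq q.2.2 c)) = true := by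
  decide +kernel

end Cfsg.Agent.Lib.ThreeT.F22.O8.Out
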