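import Cfsg.Agent.Lib.ThreeT.F22.O8.Out.NonConj
import Cfsg.Agent.Lib.ThreeT.F22.O8.Out.Stab
import Cfsg.Agent.Lib.ThreeT.F22.O8.Out.Csab
import Cfsg.Agent.Lib.Core.Basic

/-!
# The outer involutions of a group isomorphic to `Fi₂₂`
-/

set_option autoImplicit false
set_option linter.style.haveILetI false
set_option linter.unusedSectionVars false
set_option linter.unusedVariables false
set_option linter.style.longLine false
set_option linter.unnecessarySimpa false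
set_option maxRecDepth 1000000
set_option maxHeartbeats 0

namespace Cfsg.Agent.Lib.ThreeT.F22.O8.Out

open Cfsg Cfsg.Agent.Lib.TC.Core Cfsg.Agent.Lib.TC.Pres Cfsg.Agent.Lib.TC.Chain Cfsg.Agent.Lib.TC.Chain.PermLev Cfsg.Agent.Lib.TC.G.Fi22
  Cfsg.Agent.Lib.TC.D.Fi22b.Tab Cfsg.Agent.Lib.TC.D.Fi22b.Ok
  Cfsg.Agent.Lib.ThreeT.F22.Sift Cfsg.Agent.Lib.ThreeT.F22.Act Cfsg.Agent.Lib.ThreeT.F22.PLoc
  Cfsg.Agent.Lib.ThreeT.F22.Cnt Cfsg.Agent.Lib.ThreeT.F22.DPts Cfsg.Agent.Lib.ThreeT.F22.D5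
  Cfsg.Agent.Lib.ThreeT.F22.M5 Cfsg.Agent.Lib.ThreeT.F22.O8

theorem F72_eq : ∀ x, x ∈ F72L ↔ x ∈ F72N := by
  have h1 : ∀ x ∈ F72L, x ∈ F72N := by decide +kernel
  have h2 : ∀ x ∈ F72N, x ∈ F72L := by decide +kernel
  exact fun x => ⟨h1 x, h2 x⟩

theorem HD_Csab : HD Csab where
  h1 := by
    intro g hg p hp
    show (phi g p).1 ∈ F72L
    rw [F72_eq]
    exact Csab_pts hg ((F72_eq _).1 hp)
  h2 := by
    intro p hp
    exact pts_Csab ((F72_eq _).1 hp)

theorem c0_mem_D0 : c0 ∈ D0 := dp_mem _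

theorem b0_mem_D0 : b0 ∈ D0 := dp_mem _

theorem c0_ne_b0 : c0 ≠ b0 := by
  intro h
  have h1 : pB 17 = pB 34 := dp_inj h
  have h2 := pB_inj (by decide) (by decide) (by decide +kernel) (by decide +kernel) h1
  omega

theorem c0_comm_b0 : Commute c0 b0 := by
  have h1 : phi c0 (pB 34) = pB 34 := comm_of_tf (by decide) (by decide +kernel) (by decide) (by decide +kernel) (by decide +kernel)
  exact (comm_dp_iff c0 (pB 34)).2 h1

theorem sig_c0 : sig c0 = c0 := by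
  apply sig_fix_dp.2
  exact fix_K0 (by decide) (by decide +kernel)

theorem sig_b0 : sig b0 = b0 := by
  apply sig_fix_dp.2
  exact fix_K0 (by decide) (by decide +kernel)

variable {G : Type*} [Group G]

theorem map_pCore_le' {A B : Type*} [Group A] [Group B] [Finite A] {p : ℕ} [Fact p.Prime] (e : A ≃* B) :
    (pCore p A).map e.toMonoidHom ≤ pCore p B := by
  apply le_sSup
  refine ⟨?_, ?_⟩
  · haveI := Cfsg.Agent.Lib.Core.Basic.pCore_characteristic (G := A) (p := p)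
    haveI : (pCore p A).Normal := Subgroup.normal_of_characteristic _
    exact Subgroup.Normal.map inferInstance _ e.surjective
  · exact (Cfsg.Agent.Lib.Core.Basic.pCore_isPGroup (p := p)).map _

theorem map_pCore_equiv' {A B : Type*} [Group A] [Group B] [Finite A] [Finite B] {p : ℕ} [Fact p.Prime] (e : A ≃* B) :
    (pCore p A).map e.toMonoidHom = pCore p B := by
  apply le_antisymm (map_pCore_le' e)
  intro x hx
  refine ⟨e.symm x, map_pCore_le' e.symm ⟨x, hx, rfl⟩, by simp⟩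

/-- The result for a group isomorphic to `Fi₂₂`. -/
theorem main_G [Finite G] (ψ : Γ ≃* G) {D : Set G} (hD : ∀ u : G, u ∈ D ↔ ∃ k : Γ, u = ψ (k * a0 * k⁻¹)) :
    ∃ (s : MulAut G) (a b : G) (Cs : Subgroup G), orderOf s = 2 ∧ s ∉ (MulAut.conj : G →* MulAut G).range ∧ (∀ g : G, g ∈ Cs ↔ s g = g) ∧ Nonempty (↥Cs ≃* MulAut (Cfsg.Omega (ZMod 2) (Cfsg.quadFormPlus 4 (ZMod 2)))) ∧ a ∈ D ∧ b ∈ D ∧ a ≠ b ∧ Commute a b ∧ s a = a ∧ s b = b ∧ (∀ t : MulAut G, orderOf t = 2 → t ∉ (MulAut.conj : G →* MulAut G).range → (IsConj t s ∨ IsConj t (s * MulAut.conj a) ∨ IsConj t (s * MulAut.conj (a * b)))) ∧ ¬ IsConj s (s * MulAut.conj a) ∧ ¬ IsConj s (s * MulAut.conj (a * b)) ∧ ¬ IsConj (s * MulAut.conj a) (s * MulAut.conj (a * b)) ∧ (∀ g : G, (s * MulAut.conj a) g = g ↔ g ∈ Cs ⊓ Subgroup.centralizer ({a} : Set G)) ∧ Nonempty (↥(Cs ⊓ Subgroup.centralizer ({a} : Set G)) ≃* Multiplicative (ZMod 2) × Cfsg.PSp 3 (ZMod 2)) ∧ ∃ Csab O : Subgroup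 G, (∀ g : G, g ∈ Csab ↔ (s * MulAut.conj (a * b)) g = g) ∧ O = (Cfsg.pCore 2 ↥Csab).map Csab.subtype ∧ Cfsg.IsElementaryAbelian 2 O ∧ Nat.card O = 64 ∧ ∃ _ : (O.subgroupOf Csab).Normal, Nonempty (↥Csab ⧸ O.subgroupOf Csab ≃* Cfsg.isometryGroup (ZMod 2) (Cfsg.quadFormMinus 2 (ZMod 2) 1 1)) := by
  -- the transport of automorphisms
  let E : MulAut Γ ≃* MulAut G := MulAut.congr ψ
  have hE : ∀ (α : MulAut Γ) (g : Γ), E α (ψ g) = ψ (α g) := by
    intro α g
    simp [E, MulAut.congr]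
  have hEc : ∀ g : Γ, E (MulAut.conj g) = MulAut.conj (ψ g) := by
    intro g
    ext u
    obtain ⟨v, rfl⟩ := ψ.surjective u
    rw [hE]
    show ψ (g * v * g⁻¹) = ψ g * ψ v * (ψ g)⁻¹
    simp
  have hEi : ∀ β : MulAut G, β ∈ (MulAut.conj : G →* MulAut G).range ↔ E.symm β ∈ (MulAut.conj : Γ →* MulAut Γ).range := by
    intro β
    constructor
    · rintro ⟨u, rfl⟩
      obtain ⟨v, rfl⟩ := ψ.surjective u
      refine ⟨v, ?_⟩
      apply E.injective
      rw [hEc]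
      simp
    · rintro ⟨v, hv⟩
      refine ⟨ψ v, ?_⟩
      rw [← hEc, hv]
      simp
  have hconj : ∀ {α β : MulAut Γ}, IsConj (E α) (E β) ↔ IsConj α β := by
    intro α β
    constructor
    · intro h
      obtain ⟨c, hc⟩ := isConj_iff.1 h
      refine isConj_iff.2 ⟨E.symm c, ?_⟩
      apply E.injective
      rw [map_mul, map_mul, map_inv, E.apply_symm_apply, hc]
    · intro h
      obtain ⟨c, hc⟩ := isConj_iff.1 h
      refine isConj_iff.2 ⟨E c, ?_⟩
      rw [← map_inv, ← map_mul, ← map_mul, hc]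
  have hfix : ∀ (α : MulAut Γ) (H : Subgroup Γ), (∀ g, α g = g ↔ g ∈ H) → ∀ u : G, E α u = u ↔ u ∈ H.map ψ.toMonoidHom := by
    intro α H h u
    obtain ⟨v, rfl⟩ := ψ.surjective u
    rw [hE]
    constructor
    · intro h1
      exact ⟨v, (h v).1 (ψ.injective h1), rfl⟩
    · rintro ⟨w, hw, hw2⟩
      have h3 : w = v := ψ.injective hw2
      subst h3
      rw [(h w).2 hw]
  have hmapcent : (I8 ⊓ Subgroup.centralizer ({c0} : Set Γ)).map ψ.toMonoidHom = I8.map ψ.toMonoidHom ⊓ Subgroup.centralizer ({ψ c0} : Set G) := by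
    ext u
    obtain ⟨v, rfl⟩ := ψ.surjective u
    constructor
    · rintro ⟨w, ⟨h1, h2⟩, hw2⟩
      have h3 : w = v := ψ.injective hw2
      subst h3
      refine ⟨⟨w, h1, rfl⟩, Subgroup.mem_centralizer_iff.2 ?_⟩
      intro y hy
      rw [Set.mem_singleton_iff.1 hy]
      have h4 : c0 * w = w * c0 := Subgroup.mem_centralizer_iff.1 h2 c0 rfl
      show ψ c0 * ψ w = ψ w * ψ c0
      rw [← map_mul, h4, map_mul]
    · rintro ⟨⟨w, h1, hw2⟩, h2⟩
      have h3 : w = v := ψ.injective hw2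
      subst h3
      refine ⟨w, ⟨h1, Subgroup.mem_centralizer_iff.2 ?_⟩, rfl⟩
      intro y hy
      rw [Set.mem_singleton_iff.1 hy]
      have h4 : ψ c0 * ψ w = ψ w * ψ c0 := Subgroup.mem_centralizer_iff.1 h2 (ψ c0) rfl
      apply ψ.injective
      rw [map_mul, map_mul, h4]
  obtain ⟨hC1, hC2, hC3, hC4, ⟨hC5⟩⟩ := csab_main HD_Csab
  have hs : E (sig * MulAut.conj c0) = E sig * MulAut.conj (ψ c0) := by rw [map_mul, hEc]
  have hs2 : E (sig * MulAut.conj (c0 * b0)) = E sig * MulAut.conj (ψ c0 * ψ b0) := by rw [map_mul, hEc, map_mul]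
  refine ⟨E sig, ψ c0, ψ b0, I8.map ψ.toMonoidHom, ?_, ?_, ?_, ?_, ?_, ?_, ?_, ?_, ?_, ?_, ?_, ?_, ?_, ?_, ?_, ?_, ?_⟩
  · rw [MulEquiv.orderOf_eq]
    exact orderOf_sig
  · rw [hEi, E.symm_apply_apply]
    exact sig_not_inner
  · intro u
    exact ((hfix sig I8 sig_fix_iff) u).symm
  · obtain ⟨e⟩ := I8_iso
    exact ⟨(Subgroup.equivMapOfInjective I8 ψ.toMonoidHom ψ.injective).symm.trans e⟩
  · obtain ⟨k, hk⟩ := c0_mem_D0
    exact (hD _).2 ⟨k, by rw [hk]⟩
  · obtain ⟨k, hk⟩ := b0_mem_D0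
    exact (hD _).2 ⟨k, by rw [hk]⟩
  · exact fun h => c0_ne_b0 (ψ.injective h)
  · show ψ c0 * ψ b0 = ψ b0 * ψ c0
    rw [← map_mul, c0_comm_b0.eq, map_mul]
  · rw [hE, sig_c0]
  · rw [hE, sig_b0]
  · intro t ht hn
    have ht' : orderOf (E.symm t) = 2 := by rw [MulEquiv.orderOf_eq]; exact ht
    have hn' : E.symm t ∉ (MulAut.conj : Γ →* MulAut Γ).range := fun h => hn ((hEi t).2 h)
    have e1 : E (E.symm t) = t := E.apply_symm_apply t
    rcases classify _ ht' hn' with h | h | h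
    · left
      rw [← e1]
      exact hconj.2 h
    · right; left
      rw [← e1, ← hs]
      exact hconj.2 h
    · right; right
      rw [← e1, ← hs2]
      exact hconj.2 h
  · rw [← hs, hconj]
    exact not_conj1
  · rw [← hs2, hconj]
    exact not_conj2
  · rw [← hs, ← hs2, hconj]
    exact not_conj3
  · intro u
    rw [← hs, ← hmapcent]
    exact hfix _ _ fix_tau u
  · rw [← hmapcent]
    obtain ⟨e⟩ := stab_c0_iso
    exact ⟨(Subgroup.equivMapOfInjective _ ψ.toMonoidHom ψ.injective).symm.trans e⟩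
  · -- the third case
    let C' : Subgroup G := Csab.map ψ.toMonoidHom
    let e : Csab ≃* C' := Subgroup.equivMapOfInjective Csab ψ.toMonoidHom ψ.injective
    have hO : ((Cfsg.pCore 2 ↥C').map C'.subtype) = O.map ψ.toMonoidHom := by
      rw [hC3]
      have h1 := map_pCore_equiv' (p := 2) e
      rw [← h1, Subgroup.map_map, Subgroup.map_map]
      rfl
    refine ⟨C', O.map ψ.toMonoidHom, ?_, hO.symm, ?_, ?_, ?_⟩
    · intro u
      rw [← hs2]
      have := hfix (sig * MulAut.conj (c0 * b0)) Csab (fun g => Iff.rfl) u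
      exact this.symm
    · refine ⟨⟨⟨?_⟩⟩, ?_⟩
      · rintro ⟨_, u, hu, rfl⟩ ⟨_, v, hv, rfl⟩
        apply Subtype.ext
        have h1 := hC1.1.is_comm.comm (⟨u, hu⟩ : O) ⟨v, hv⟩
        have h2 : u * v = v * u := congrArg Subtype.val h1
        show ψ u * ψ v = ψ v * ψ u
        rw [← map_mul, h2, map_mul]
      · rintro _ ⟨u, hu, rfl⟩
        show (ψ u) ^ 2 = 1
        rw [← map_pow, hC1.2 u hu, map_one]
    · rw [Subgroup.card_map_of_injective ψ.injective, hC2]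
    · have hm : (O.subgroupOf Csab).map e.toMonoidHom = (O.map ψ.toMonoidHom).subgroupOf C' := by
        ext ⟨u, hu⟩
        constructor
        · rintro ⟨⟨v, hv⟩, hv2, hv3⟩
          have hv4 : ψ v = u := congrArg Subtype.val hv3
          show u ∈ O.map ψ.toMonoidHom
          exact ⟨v, hv2, hv4⟩
        · rintro ⟨v, hv2, hv3⟩
          have hv4 : ψ v = u := hv3
          obtain ⟨w, hw, hw2⟩ := hu
          have hw3 : ψ w = u := hw2
          have hw4 : w = v := ψ.injective (hw3.trans hv4.symm)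
          subst hw4
          exact ⟨⟨w, hw⟩, hv2, Subtype.ext hv4⟩
      haveI hN0 : (O.subgroupOf Csab).Normal := hC4
      have hN : ((O.map ψ.toMonoidHom).subgroupOf C').Normal := by
        rw [← hm]
        exact hN0.map _ e.surjective
      refine ⟨hN, ⟨?_⟩⟩
      exact (QuotientGroup.congr _ _ e hm).symm.trans hC5

end Cfsg.Agent.Lib.ThreeT.F22.O8.Out
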