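import Cfsg.Agent.Lib.ThreeT.F22.O8.Out.Classify

/-!
# The three classes are different: automorphisms permute the class of transpositions
-/

set_option autoImplicit false
set_option linter.style.haveILetI false
set_option linter.unusedSectionVars false
set_option linter.unusedVariables false
set_option linter.style.longLine false
set_option linter.unnecessarySimpa false
set_option maxRecDepth 1000000
set_option maxHeartbeats 0

namespace Cfsg.Agent.Lib.ThreeT.F22.O8.Out

open Cfsg Cfsg.Agent.Lib.TC.Core Cfsg.Agent.Lib.TC.Pres Cfsg.Agent.Lib.TC.Chain Cfsg.Agent.Lib.TC.Chain.PermLev Cfsg.Agent.Lib.TC.G.Fi22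
  Cfsg.Agent.Lib.TC.D.Fi22b.Tab Cfsg.Agent.Lib.TC.D.Fi22b.Ok
  Cfsg.Agent.Lib.ThreeT.F22.Sift Cfsg.Agent.Lib.ThreeT.F22.Act Cfsg.Agent.Lib.ThreeT.F22.PLoc
  Cfsg.Agent.Lib.ThreeT.F22.Cnt Cfsg.Agent.Lib.ThreeT.F22.DPts Cfsg.Agent.Lib.ThreeT.F22.D5
  Cfsg.Agent.Lib.ThreeT.F22.M5 Cfsg.Agent.Lib.ThreeT.F22.O8

theorem inn_index : (Inn Γ).index = 2 := by
  have h1 : Nat.card (Cfsg.Out Γ) = 2 := Cfsg.Agent.S2079.result
  exact h1

/-- Every automorphism is inner or in the outer coset. -/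
theorem aut_cases (κ : MulAut Γ) : (∃ k, κ = MulAut.conj k) ∨ (∃ k, κ = tG k) := by
  by_cases h : κ ∈ Inn Γ
  · obtain ⟨k, hk⟩ := h
    exact Or.inl ⟨k, hk.symm⟩
  · right
    have h1 := Subgroup.mul_mem_iff_of_index_two inn_index (a := sig) (b := κ)
    have h2 : sig * κ ∈ Inn Γ := h1.2 ⟨fun hs => absurd hs sig_not_inner, fun hk => absurd hk h⟩
    obtain ⟨k, hk⟩ := h2
    refine ⟨k, ?_⟩
    rw [tG, hk, ← mul_assoc, sig_sq, one_mul]

/-- `sP` as a permutation. -/
def sPe : Equiv.Perm (Fin pt.n) := ⟨sP, sP, sP_sP, sP_sP⟩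

/-- Automorphisms act on the points. -/
theorem aut_pts (κ : MulAut Γ) : ∃ π : Equiv.Perm (Fin pt.n), ∀ p, κ (dp p) = dp (π p) := by
  rcases aut_cases κ with ⟨k, rfl⟩ | ⟨k, rfl⟩
  · exact ⟨phi k, fun p => conj_dp k p⟩
  · exact ⟨sPe * phi k, fun p => twist_dp k p⟩

/-- The fixed points of an automorphism. -/
def Fx (t : MulAut Γ) : Set (Fin pt.n) := {p | t (dp p) = dp p}

theorem ncard_Fx {t t' : MulAut Γ} (h : IsConj t t') : (Fx t).ncard = (Fx t').ncard := by
  obtain ⟨κ, hκ⟩ := isConj_iff.1 h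
  obtain ⟨π, hπ⟩ := aut_pts κ
  have himg : Fx t' = π '' Fx t := by
    ext q
    constructor
    · intro hq
      refine ⟨π.symm q, ?_, by simp⟩
      show t (dp (π.symm q)) = dp (π.symm q)
      have h1 : t' (dp q) = dp q := hq
      have h2 : κ (dp (π.symm q)) = dp q := by rw [hπ]; simp
      rw [← hκ] at h1
      rw [← h2] at h1
      have h3 : (κ * t * κ⁻¹) (κ (dp (π.symm q))) = κ (t (dp (π.symm q))) := by
        simp [MulAut.mul_apply]
      rw [h3] at h1
      exact κ.injective h1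
    · rintro ⟨p, hp, rfl⟩
      show t' (dp (π p)) = dp (π p)
      have hp' : t (dp p) = dp p := hp
      rw [← hπ, ← hκ]
      simp [MulAut.mul_apply, hp']
  rw [himg, Set.ncard_image_of_injective _ π.injective]

theorem ncard_list (L : List Nat) (hnd : L.Nodup) (hlt : ∀ x ∈ L, x < 3510) : ({p : Fin pt.n | p.1 ∈ L}).ncard = L.length := by
  have h1 : (Fin.val '' {p : Fin pt.n | p.1 ∈ L}) = (L.toFinset : Set Nat) := by
    ext x
    constructor
    · rintro ⟨p, hp, rfl⟩
      simpa using hp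
    · intro hx
      have hx' : x ∈ L := by simpa using hx
      exact ⟨⟨x, hlt x hx'⟩, hx', rfl⟩
  rw [← Set.ncard_image_of_injective _ Fin.val_injective, h1, Set.ncard_coe_finset, List.toFinset_card_of_nodup hnd]

/-- The fixed points of `σ`. -/
noncomputable def F360 : List Nat := (List.range 3510).filter (fun p => Nat.beq (sN p) p)

theorem hF360 : F360.length = 360 ∧ F360.Nodup := by
  constructor
  · decide +kernel
  · exact (List.nodup_range).filter _

theorem Fx_sig : (Fx sig).ncard = 360 := by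
  have h : Fx sig = {p : Fin pt.n | p.1 ∈ F360} := by
    ext p
    show sig (dp p) = dp p ↔ p.1 ∈ F360
    rw [sig_fix_dp, F360, List.mem_filter]
    constructor
    · intro hp
      have h3 : sN p.1 = p.1 := congrArg Fin.val hp
      refine ⟨List.mem_range.2 p.2, ?_⟩
      rw [h3]
      simp
    · rintro ⟨_, h2⟩
      exact Fin.ext (Nat.eq_of_beq_eq_true h2)
  rw [h, ncard_list _ hF360.2, hF360.1]
  intro x hx
  rw [F360, List.mem_filter, List.mem_range] at hx
  exact hx.1

theorem Fx_tau : (Fx (sig * MulAut.conj c0)).ncard = 64 := by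
  have h : Fx (sig * MulAut.conj c0) = {p : Fin pt.n | p.1 ∈ F64} := by
    ext p
    show (sig * MulAut.conj c0) (dp p) = dp p ↔ p.1 ∈ F64
    rw [twist_dp, ← mem64]
    exact ⟨fun h => dp_inj h, fun h => by rw [h]⟩
  rw [h, ncard_list _ (by decide +kernel) (by decide +kernel)]
  decide +kernel

theorem Fx_rho : (Fx (sig * MulAut.conj (c0 * b0))).ncard = 72 := by
  have h : Fx (sig * MulAut.conj (c0 * b0)) = {p : Fin pt.n | p.1 ∈ F72N} := by
    ext p
    show (sig * MulAut.conj (c0 * b0)) (dp p) = dp p ↔ p.1 ∈ F72N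
    rw [twist_dp, ← mem72]
    exact ⟨fun h => dp_inj h, fun h => by rw [h]⟩
  rw [h, ncard_list _ (by decide +kernel) (by decide +kernel)]
  decide +kernel

theorem not_conj1 : ¬ IsConj sig (sig * MulAut.conj c0) := by
  intro h
  have := ncard_Fx h
  rw [Fx_sig, Fx_tau] at this
  omega

theorem not_conj2 : ¬ IsConj sig (sig * MulAut.conj (c0 * b0)) := by
  intro h
  have := ncard_Fx h
  rw [Fx_sig, Fx_rho] at this
  omega

theorem not_conj3 : ¬ IsConj (sig * MulAut.conj c0) (sig * MulAut.conj (c0 * b0)) := by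
  intro h
  have := ncard_Fx h
  rw [Fx_tau, Fx_rho] at this
  omega

end Cfsg.Agent.Lib.ThreeT.F22.O8.Out
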